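import Groth.Agent.TautSh.K974.ThroughPt
import Groth.Agent.Ega2.FiniteSet
import Groth.Agent.Picfga.CurveRelDim

/-!
# Subschemes of length two through a given point of a smooth projective surface
-/

set_option autoImplicit false

universe u

open CategoryTheory CategoryTheory.Limits AlgebraicGeometry

namespace K974.ThroughPt

/-- **The locus of length-two subschemes through a fixed closed point has dimension at most two.** -/
theorem dim_through_point (k : Type u) [Field k] [IsAlgClosed k] (X : Scheme.{u})
    [X.Over (Spec (CommRingCat.of k))] [AlgebraicGeometry.IsIntegral X] [Smooth (X ↘ Spec (CommRingCat.of k))]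
    [IsProper (X ↘ Spec (CommRingCat.of k))] (hdim : topologicalKrullDim X = 2)
    (Hl : X.Modules) (hHl : CohB1.IsAmple Hl) (Hs : Scheme.{u})
    [Hs.Over (Spec (CommRingCat.of k))] [IsProper (Hs ↘ Spec (CommRingCat.of k))]
    (Z : HilbD.Obj (X ↘ Spec (CommRingCat.of k)) 2 (CategoryTheory.Over.mk (Hs ↘ Spec (CommRingCat.of k))))
    (hU : HilbD.IsUniversal (X ↘ Spec (CommRingCat.of k)) 2
      (CategoryTheory.Over.mk (Hs ↘ Spec (CommRingCat.of k))) Z) (x : X) (hx : IsClosed {x}) :
    topologicalKrullDim ((TautSh.famToX (X ↘ Spec (CommRingCat.of k))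
      (CategoryTheory.Over.mk (Hs ↘ Spec (CommRingCat.of k))) Z.1) ⁻¹' {x} : Set _) ≤ 2 := by
  have hsm : SmoothOfRelativeDimension 2 (X ↘ Spec (CommRingCat.of k)) :=
    Groth.Agent.Picfga.CurveRelDim.smoothOfRelativeDimension_of_topologicalKrullDim_eq k X _ 2
      (by exact_mod_cast hdim)
  have hsep : X.IsSeparated := by
    rw [Scheme.isSeparated_iff]
    have : IsSeparated ((X ↘ Spec (CommRingCat.of k)) ≫ terminal.from (Spec (CommRingCat.of k))) := inferInstance
    rwa [terminal.comp_from] at this
  have hc : CompactSpace X := by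
    have h : QuasiCompact (X ↘ Spec (CommRingCat.of k)) := inferInstance
    exact QuasiCompact.compactSpace_of_compactSpace (X ↘ Spec (CommRingCat.of k))
  have hlft : LocallyOfFiniteType (CategoryTheory.Over.mk (Hs ↘ Spec (CommRingCat.of k))).hom :=
    (inferInstance : LocallyOfFiniteType (Hs ↘ Spec (CommRingCat.of k)))
  refine dim_le (X ↘ Spec (CommRingCat.of k)) hdim.le (fun T hT => ?_) hU x hx
  obtain ⟨n, s, h1, -, h3⟩ := Groth.Agent.Ega2.FiniteSet.exists_affine_genLocus_of_finite hHl T hT ⊤ (by simp)
  exact ⟨_, h3, h1⟩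

end K974.ThroughPt
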