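import Groth.Agent.AlgSp.K618.Sch
import Groth.Agent.AlgSp.K618.TopDim
import Groth.Agent.TopDim.K284.Basic
import Mathlib.AlgebraicGeometry.ZariskisMainTheorem

/-!
# A finite cover of the base which lifts birationally: the lift covers the preimage
-/

set_option autoImplicit false
universe u

open CategoryTheory CategoryTheory.Limits AlgebraicGeometry TopologicalSpace

namespace K974.TautSh

/-- A locally quasi-finite closed map into an irreducible space of the same finite dimension is onto. -/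
theorem surjective_of_lqf {V H : Scheme.{u}} (c : V ⟶ H) [LocallyQuasiFinite c] [QuasiCompact c]
    (hcl : IsClosed (Set.range c)) [IrreducibleSpace H] (n : ℕ) (hH : topologicalKrullDim H ≤ n)
    (hV : topologicalKrullDim V = n) : Set.range c = Set.univ := by
  by_contra hne
  have hfin : topologicalKrullDim H ≠ ⊤ := fun h => by
    rw [h] at hH
    exact absurd (top_le_iff.1 hH) (by exact WithBot.coe_injective.ne (ENat.coe_ne_top n))
  have h1 := K284.TopDim.dim_lt_of_isClosed_of_irreducible hfin (Set.range c) hcl hne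
  have hq : LocallyQuasiFinite c.toImage := by
    have : LocallyQuasiFinite (c.toImage ≫ c.imageι) := by rwa [c.toImage_imageι]
    exact .of_comp c.toImage c.imageι
  have h2 : topologicalKrullDim V ≤ topologicalKrullDim c.image :=
    K618.TopDim.dim_le_of_fibres c.toImage c.toImage.continuous
      fun _ _ h he => K618.Sch.eq_of_specializes_of_eq c.toImage h he
  have hr : Set.range c.imageι = Set.range c := by
    rw [show Set.range c.imageι = closure (Set.range c) from ?_, hcl.closure_eq]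
    rw [Scheme.IdealSheafData.range_subschemeι]
    exact c.support_ker
  have h3 : topologicalKrullDim c.image ≤ topologicalKrullDim (Set.range c) := by
    refine Topology.IsInducing.topologicalKrullDim_le
      (f := Set.codRestrict (c.imageι : c.image → H) (Set.range c) (fun x => hr ▸ Set.mem_range_self x)) ?_
    exact c.imageι.isClosedEmbedding.isInducing.codRestrict _
  exact absurd (hV ▸ h2.trans h3 |>.trans_lt (h1.trans_le hH)) (lt_irrefl _)

theorem range_eq (k : Type u) [Field k] {H Y P : Scheme.{u}} [H.Over (Spec (CommRingCat.of k))]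
    [IsProper (H ↘ Spec (CommRingCat.of k))] [IsIntegral H] (gY : Y ⟶ Spec (CommRingCat.of k)) [IsProper gY]
    (ρ : H ⟶ Y) (hρ : ρ ≫ gY = H ↘ Spec (CommRingCat.of k)) (q : P ⟶ Y) [IsFinite q] (W : Y.Opens)
    (c : ((q ⁻¹ᵁ W : P.Opens) : Scheme.{u}) ⟶ H) (hc : c ≫ ρ = (q ⁻¹ᵁ W).ι ≫ q) (n : ℕ)
    (hH : topologicalKrullDim H = n)
    (hV : topologicalKrullDim (((q ⁻¹ᵁ W : P.Opens) : Scheme.{u})) = n) :
    Set.range c = ρ ⁻¹' (W : Set Y) ∧ IsFinite (ρ ∣_ W) := by
  have hρp : IsProper ρ := by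
    have : IsProper (ρ ≫ gY) := by rw [hρ]; infer_instance
    exact IsProper.of_comp ρ gY
  have hrg : Set.range c ⊆ ((ρ ⁻¹ᵁ W : H.Opens) : Set H) := by
    rintro _ ⟨v, rfl⟩
    have h1 : ρ (c v) = q v.1 := by
      have := congrArg (fun f : ((q ⁻¹ᵁ W : P.Opens) : Scheme.{u}) ⟶ Y => f v) hc
      simpa using this
    change ρ (c v) ∈ (W : Set Y)
    rw [h1]
    exact v.2
  have hrg' : Set.range c ⊆ Set.range (ρ ⁻¹ᵁ W).ι := by rwa [Scheme.Opens.range_ι]
  let c' : ((q ⁻¹ᵁ W : P.Opens) : Scheme.{u}) ⟶ ((ρ ⁻¹ᵁ W : H.Opens) : Scheme.{u}) :=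
    IsOpenImmersion.lift (ρ ⁻¹ᵁ W).ι c hrg'
  have hc' : c' ≫ (ρ ⁻¹ᵁ W).ι = c := IsOpenImmersion.lift_fac _ _ _
  have hcc : c' ≫ (ρ ∣_ W) = q ∣_ W := by
    rw [← cancel_mono W.ι, Category.assoc, morphismRestrict_ι, morphismRestrict_ι, ← hc, ← hc', Category.assoc]
  have hfq : IsFinite (q ∣_ W) := inferInstance
  have hsep : IsSeparated (ρ ∣_ W) := inferInstance
  have hfc : IsFinite (c' ≫ (ρ ∣_ W)) := by rw [hcc]; exact hfq
  have hfc' : IsFinite c' := IsFinite.of_comp c' (ρ ∣_ W)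
  have hne : Nonempty ((q ⁻¹ᵁ W : P.Opens) : Scheme.{u}) := by
    by_contra hemp
    rw [not_nonempty_iff] at hemp
    have : topologicalKrullDim (((q ⁻¹ᵁ W : P.Opens) : Scheme.{u})) = ⊥ := by
      unfold topologicalKrullDim
      rw [Order.krullDim_eq_bot_iff]
      exact ⟨fun s => hemp.false s.2.1.nonempty.some⟩
    rw [this] at hV
    exact absurd hV.symm (WithBot.coe_ne_bot)
  have hneW : Nonempty ((ρ ⁻¹ᵁ W : H.Opens) : Scheme.{u}) := ⟨c' hne.some⟩
  have hirr : IrreducibleSpace ((ρ ⁻¹ᵁ W : H.Opens) : Scheme.{u}) := by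
    have : IsIntegral ((ρ ⁻¹ᵁ W : H.Opens) : Scheme.{u}) := inferInstance
    infer_instance
  have hdim : topologicalKrullDim ((ρ ⁻¹ᵁ W : H.Opens) : Scheme.{u}) ≤ n := by
    rw [← hH]
    exact topologicalKrullDim_subspace_le H ((ρ ⁻¹ᵁ W : H.Opens) : Set H)
  have hclc : IsClosed (Set.range c') := c'.isClosedMap.isClosed_range
  have huniv := surjective_of_lqf c' hclc n hdim hV
  refine ⟨?_, ?_⟩
  · refine Set.Subset.antisymm hrg fun x hx => ?_
    obtain ⟨v, hv⟩ : (⟨x, hx⟩ : ((ρ ⁻¹ᵁ W : H.Opens) : Scheme.{u})) ∈ Set.range c' := by rw [huniv]; trivial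
    refine ⟨v, ?_⟩
    rw [← hc', Scheme.Hom.comp_apply, hv]
    rfl
  · rw [IsFinite.iff_isProper_and_locallyQuasiFinite]
    refine ⟨inferInstance, .of_finite_preimage_singleton _ (fun y => ?_)⟩
    have h1 : ((ρ ∣_ W) ⁻¹' {y}) ⊆ c' '' ((q ∣_ W) ⁻¹' {y}) := by
      intro x hx
      obtain ⟨v, hv⟩ : x ∈ Set.range c' := by rw [huniv]; trivial
      refine ⟨v, ?_, hv⟩
      rw [Set.mem_preimage, ← hcc, Scheme.Hom.comp_apply, hv]
      exact hx
    exact ((Scheme.Hom.finite_preimage_singleton (q ∣_ W) y).image _).subset h1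

end K974.TautSh
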