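import Groth.Agent.HilbD.K536.AlgUp

/-!
# Fields of definition of ideals of colength two through a rational point

`k ⊆ K` fields, `K` algebraically closed, `A` a smooth `k`-algebra of relative dimension two,
`c₀ : A → K` a point with values in `k` and `J ≤ K ⊗ A` an ideal of colength two contained in the
maximal ideal of `c₀`. Then `J` is defined over a subfield of `K` of transcendence degree at most two over `k`.
-/

set_option autoImplicit false

universe u

namespace K974.PairDef

open TensorProduct K536.DefOver K536.DefOver.CoeffAct Module K536.Form K536.Local K536.Rk K536.Global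
  K536.AlgUp

variable {k K A : Type u} [Field k] [Field K] [Algebra k K] [CommRing A] [Algebra k A]

theorem FF_eq_bot (c₀ : A →ₐ[k] K) (hc₀ : ∀ a, c₀ a ∈ Set.range (algebraMap k K)) : FF c₀ = ⊥ := by
  rw [eq_bot_iff, FF, IntermediateField.adjoin_le_iff]
  rintro _ ⟨a, rfl⟩
  obtain ⟨r, hr⟩ := hc₀ a
  rw [← hr]
  exact (⊥ : IntermediateField k K).algebraMap_mem r

instance mm_isMaximal (c : A →ₐ[k] K) : (mm c).IsMaximal := by
  rw [mm]
  exact RingHom.ker_isMaximal_of_surjective _ fun a => ⟨a ⊗ₜ[k] 1, by simp [ev]⟩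

theorem rk_point_le_of_dim [Algebra.FiniteType k A] (n : ℕ) (hA : ringKrullDim A ≤ n) (c : A →ₐ[k] K) :
    rk k (Set.range c) ≤ n := by
  have hp : (RingHom.ker c).IsPrime := RingHom.ker_isPrime _
  have h1 := Groth.Agent.Flat2F.TrdegDim.trdeg_quotient_le (K := k) (F := A) (RingHom.ker c) n hA
  have e : (A ⧸ RingHom.ker c) ≃ₐ[k] c.range := Ideal.quotientKerEquivRange c
  rw [e.trdeg_eq] at h1
  exact rk_range_le c h1

/-- **The bound.** -/
theorem exists_defOver [IsAlgClosed K] [Algebra.FiniteType k A] (hdim : ringKrullDim A ≤ 2)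
    (hsm : RingHom.Locally (RingHom.IsStandardSmoothOfRelativeDimension 2) (algebraMap k A))
    (c₀ : A →ₐ[k] K) (hc₀ : ∀ a, c₀ a ∈ Set.range (algebraMap k K))
    (J : Ideal (K ⊗[k] A)) [Module.Finite K ((K ⊗[k] A) ⧸ J)]
    (hJ2 : finrank K ((K ⊗[k] A) ⧸ J) = 2) (hJ : J ≤ mm c₀) :
    ∃ F : IntermediateField k K, K221.FldPt.DefOver F J ∧ Algebra.trdeg k F ≤ 2 := by
  have hFF : FF c₀ = ⊥ := FF_eq_bot c₀ hc₀
  have hfin : ∀ I : Ideal (K ⊗[k] A), J ≤ I → Module.Finite K ((K ⊗[k] A) ⧸ I) := fun I hI =>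
    Module.Finite.of_surjective (Ideal.Quotient.factorₐ K hI).toLinearMap
      (Ideal.Quotient.factor_surjective hI)
  by_cases hex : ∃ P : Ideal (K ⊗[k] A), P.IsMaximal ∧ J ≤ P ∧ P ≠ mm c₀
  · obtain ⟨P, hP, hJP, hne⟩ := hex
    have := hfin P hJP
    obtain ⟨c₁, rfl⟩ := exists_point P
    have hcop : IsCoprime (mm c₀) (mm c₁) := by
      rw [Ideal.isCoprime_iff_sup_eq]
      exact Ideal.IsMaximal.coprime_of_ne (mm_isMaximal c₀) (mm_isMaximal c₁) hne.symm
    have hJle : J ≤ mm c₀ ⊓ mm c₁ := le_inf hJ hJP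
    have hfi := hfin _ hJle
    have h1 : 2 ≤ finrank K ((K ⊗[k] A) ⧸ (mm c₀ ⊓ mm c₁)) := by
      have := hfin _ hJ
      let L : ((K ⊗[k] A) ⧸ (mm c₀ ⊓ mm c₁)) →ₗ[K] ((K ⊗[k] A) ⧸ mm c₀) × ((K ⊗[k] A) ⧸ mm c₁) :=
        (Ideal.Quotient.factorₐ K inf_le_left).toLinearMap.prod
          (Ideal.Quotient.factorₐ K inf_le_right).toLinearMap
      have hL : Function.Surjective L := by
        rintro ⟨a, b⟩
        obtain ⟨a, rfl⟩ := Ideal.Quotient.mk_surjective a
        obtain ⟨b, rfl⟩ := Ideal.Quotient.mk_surjective b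
        obtain ⟨u, hu, v, hv, huv⟩ := (Ideal.isCoprime_iff_exists.1 hcop)
        refine ⟨Ideal.Quotient.mk _ (a * v + b * u), ?_⟩
        refine Prod.ext ?_ ?_
        · change Ideal.Quotient.mk (mm c₀) (a * v + b * u) = Ideal.Quotient.mk (mm c₀) a
          rw [Ideal.Quotient.eq]
          have : a * v + b * u - a = (b - a) * u := by
            linear_combination a * huv
          rw [this]
          exact Ideal.mul_mem_left _ _ hu
        · change Ideal.Quotient.mk (mm c₁) (a * v + b * u) = Ideal.Quotient.mk (mm c₁) b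
          rw [Ideal.Quotient.eq]
          have : a * v + b * u - b = (a - b) * v := by
            linear_combination b * huv
          rw [this]
          exact Ideal.mul_mem_left _ _ hv
      have h2 := LinearMap.finrank_le_finrank_of_surjective (f := L) hL
      rw [Module.finrank_prod] at h2
      have h3 : ∀ c : A →ₐ[k] K, J ≤ mm c → 1 ≤ finrank K ((K ⊗[k] A) ⧸ mm c) := fun c hc => by
        have := hfin _ hc
        have : Nontrivial ((K ⊗[k] A) ⧸ mm c) := Ideal.Quotient.nontrivial_iff.2 (mm_isMaximal c).ne_top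
        exact Module.finrank_pos
      have h4 := h3 c₀ hJ
      have h5 := h3 c₁ hJP
      omega
    have hJeq : J = mm c₀ ⊓ mm c₁ := by
      refine le_antisymm hJle ?_
      let L : ((K ⊗[k] A) ⧸ J) →ₗ[K] ((K ⊗[k] A) ⧸ (mm c₀ ⊓ mm c₁)) :=
        (Ideal.Quotient.factorₐ K hJle).toLinearMap
      have hL : Function.Surjective L := Ideal.Quotient.factor_surjective hJle
      have h2 := LinearMap.finrank_le_finrank_of_surjective (f := L) hL
      have h3 : Function.Injective L :=
        (LinearMap.injective_iff_surjective_of_finrank_eq_finrank (by omega)).2 hL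
      intro x hx
      have h4 : L (Ideal.Quotient.mk J x) = 0 := by
        change Ideal.Quotient.mk _ x = 0
        rwa [Ideal.Quotient.eq_zero_iff_mem]
      rw [← Ideal.Quotient.eq_zero_iff_mem]
      exact h3 (h4.trans (map_zero L).symm)
    have hD : (TA k K A).Def (FF c₁) (J.restrictScalars K) := by
      have h2 : J.restrictScalars K = (mm c₀ ^ 1).restrictScalars K ⊓ (mm c₁ ^ 1).restrictScalars K := by
        rw [pow_one, pow_one, hJeq]
        rfl
      rw [h2]
      refine Def.inf ((def_mm_pow c₀ 1).mono ?_) (def_mm_pow c₁ 1)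
      rw [hFF]
      exact bot_le
    exact ⟨FF c₁, defOver_of_def hD, trdeg_le ((rk_adjoin _).trans (rk_point_le_of_dim 2 (by exact_mod_cast hdim) c₁))⟩
  · push Not at hex
    set Q := (K ⊗[k] A) ⧸ J with hQ
    have : IsArtinianRing Q := IsArtinianRing.of_finite K Q
    obtain ⟨n, hn⟩ := IsArtinianRing.isNilpotent_nilradical (R := Q)
    have hN : mm c₀ ^ n ≤ J := by
      have h1 : (mm c₀).map (Ideal.Quotient.mk J) ≤ nilradical Q := by
        rw [Ideal.map_le_iff_le_comap]
        intro x hx
        rw [Ideal.mem_comap, mem_nilradical]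
        rw [← mem_nilradical, nilradical_eq_sInf, Ideal.mem_sInf]
        intro p hp
        have hpm : p.IsMaximal := by
          have : p.IsPrime := hp
          exact IsArtinianRing.isMaximal_of_isPrime p
        have h2 := hex (p.comap (Ideal.Quotient.mk J))
          (Ideal.comap_isMaximal_of_surjective _ Ideal.Quotient.mk_surjective) (fun y hy => by
            rw [Ideal.mem_comap, Ideal.Quotient.eq_zero_iff_mem.2 hy]
            exact zero_mem _)
        rw [← h2] at hx
        exact hx
      have h2 : ((mm c₀) ^ n).map (Ideal.Quotient.mk J) ≤ 0 := by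
        rw [Ideal.map_pow, ← hn]
        exact Ideal.pow_right_mono h1 n
      intro x hx
      rw [← Ideal.Quotient.eq_zero_iff_mem]
      exact (Submodule.mem_bot _).1 (h2 (Ideal.mem_map_of_mem _ hx))
    have hJt : J ≠ ⊤ := fun h => (mm_isMaximal c₀).ne_top (top_le_iff.1 (h ▸ hJ))
    obtain ⟨b₁, b₂, hb⟩ := exists_gen_of_smooth hsm (AlgHom.id k A) Function.surjective_id c₀
    have hfin' : Module.Finite K ((K ⊗[k] A) ⧸ J.restrictScalars K) :=
      Module.Finite.equiv (Submodule.Quotient.restrictScalarsEquiv K J).symm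
    obtain ⟨S, hS1, hS2⟩ := exists_def_local c₀ J hJt n hN b₁ b₂ hb
    rw [(Submodule.Quotient.restrictScalarsEquiv K J).finrank_eq, hJ2] at hS1
    refine ⟨_, defOver_of_def hS2, trdeg_le ?_⟩
    refine (rk_sup _ _).trans ?_
    rw [hFF, rk_bot, zero_add]
    refine (rk_adjoin _).trans ((rk_le_encard _).trans ?_)
    rw [Set.encard_coe_eq_coe_finsetCard]
    exact_mod_cast hS1.le

end K974.PairDef
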