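import Groth.Agent.HilbD.K536.Upper
import Groth.Agent.TautSh.K974.PairDef
import Groth.Prelude.Def_TautSec

/-!
# Subschemes of length two through a given point of a surface

`X` a smooth surface over an algebraically closed field in which finite sets of points are contained in affine
opens. The locus of the universal family of `Hilb²` lying over a closed point of `X` has dimension at most two.
-/

set_option autoImplicit false
set_option backward.isDefEq.respectTransparency false

universe u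

open CategoryTheory CategoryTheory.Limits AlgebraicGeometry TensorProduct

namespace K974.ThroughPt

open Groth.Agent.Picfga.HilbPull Groth.Agent.Picfga.HilbTriple Groth.Agent.Picfga.SecGraph
  Groth.Agent.Picfga.HilbRep Groth.Agent.Sga4h.GeoDim K221.AffPt K221.FldPt K536.Form

variable {k : Type u} [Field k] [IsAlgClosed k] {X : Scheme.{u}} (f : X ⟶ Spec (CommRingCat.of k))

section Ring

variable {K A : Type u} [Field K] [Algebra k K] [CommRing A] [Algebra k A]

omit [IsAlgClosed k] in
/-- The ideal of a rational point contains every prime ideal lying over it. -/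
theorem eq_mm (χ : A →ₐ[k] k) (P : Ideal (K ⊗[k] A)) (hP : P ≠ ⊤)
    (h : ∀ a, χ a = 0 → incR K a ∈ P) : P = mm ((Algebra.ofId k K).comp χ) := by
  refine (((PairDef.mm_isMaximal ((Algebra.ofId k K).comp χ)).eq_of_le hP ?_)).symm
  rw [mm_eq_span, Ideal.span_le]
  rintro _ ⟨a, rfl⟩
  have h1 : δ ((Algebra.ofId k K).comp χ) a = incR K (a - algebraMap k A (χ a)) := by
    rw [δ]
    change (1 : K) ⊗ₜ[k] a - (algebraMap k K (χ a)) ⊗ₜ[k] (1 : A) =
      (1 : K) ⊗ₜ[k] (a - algebraMap k A (χ a))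
    rw [tmul_sub, Algebra.algebraMap_eq_smul_one, Algebra.algebraMap_eq_smul_one, smul_tmul]
  rw [h1]
  refine h _ ?_
  rw [map_sub, AlgHom.commutes]
  simp

end Ring

variable [IsSeparated f] [SmoothOfRelativeDimension 2 f] (hdim : topologicalKrullDim X ≤ 2)
  (hFA : ∀ T : Set X, T.Finite → ∃ U : X.Opens, IsAffineOpen U ∧ T ⊆ U)
  {H : Over (Spec (CommRingCat.of k))} {Z : HilbD.Obj f 2 H} (hZ : HilbD.IsUniversal f 2 H Z)

include hdim hFA hZ in
theorem trdegAt_le (x : X) (hx : IsClosed ({x} : Set X)) (z : TautSh.fam f H Z.1)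
    (hz : TautSh.famToX f H Z.1 z = x) :
    trdegAt H.hom (TautSh.famToH f H Z.1 z) ≤ 2 := by
  classical
  obtain ⟨K, _, _, _, y, hy⟩ := K536.Upper.exists_geom_pt (TautSh.famToH f H Z.1 z)
  have hfin : IsFinite (pi f (pullObj f y Z).1) := (pullObj f y Z).2.1.1
  have hW : Finite (pullObj f y Z).1.subscheme := by
    have h1 := (pi f (pullObj f y Z).1).finite_preimage_singleton (o K)
    have h2 : (pi f (pullObj f y Z).1) ⁻¹' {o K} = Set.univ :=
      Set.eq_univ_of_forall fun z => eq_o _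
    rw [h2] at h1
    exact Set.finite_univ_iff.1 h1
  have hT : (Set.range (qq f (pullObj f y Z).1)).Finite := Set.finite_range _
  obtain ⟨U, hU, hTU⟩ := hFA (insert x (Set.range (qq f (pullObj f y Z).1))) (hT.insert _)
  have hxU : x ∈ U := hTU (Set.mem_insert _ _)
  obtain ⟨φ, hφ⟩ := Spec.map_surjective (hU.fromSpec ≫ f)
  let A : Type u := Γ(X, U)
  let _ : Algebra k A := φ.hom.toAlgebra
  let j : Spec (CommRingCat.of A) ⟶ X := hU.fromSpec
  have hj : j ≫ f = Spec.map (CommRingCat.ofHom (algebraMap k A)) := hφ.symm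
  obtain ⟨J, hJ, hyJ⟩ := exists_eq_pt j hj hZ y (by
    intro z
    have h1 : (qq f (pullObj f y Z).1) z ∈ U := hTU (Set.mem_insert_of_mem _ ⟨z, rfl⟩)
    change _ ∈ Set.range hU.fromSpec
    rw [hU.range_fromSpec]
    exact h1)
  have him : y.left (o K) = K221.FldPt.im j hj hZ J hJ := by rw [K221.FldPt.im, ← hyJ]
  obtain ⟨hJ1, hJ2⟩ := (isFinLocFreeOfDeg_zpi_iff J).1 hJ
  have hsm : RingHom.Locally (RingHom.IsStandardSmoothOfRelativeDimension 2) (algebraMap k A) := by
    have h1 : SmoothOfRelativeDimension 2 (Spec.map φ) := by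
      rw [hφ]
      exact IsZariskiLocalAtSource.comp (P := @SmoothOfRelativeDimension 2) inferInstance _
    exact (HasRingHomProperty.Spec_iff (P := @SmoothOfRelativeDimension 2)).1 h1
  have hft : Algebra.FiniteType k A := by
    have hs : Smooth f := SmoothOfRelativeDimension.smooth 2 f
    have h1 : LocallyOfFiniteType (Spec.map φ) := by
      rw [hφ]
      infer_instance
    exact (HasRingHomProperty.Spec_iff (P := @LocallyOfFiniteType)).1 h1
  have hdimA : ringKrullDim A ≤ 2 := by
    rw [← PrimeSpectrum.topologicalKrullDim_eq_ringKrullDim]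
    exact (hU.fromSpec.isOpenEmbedding.isInducing.topologicalKrullDim_le).trans hdim
  -- the rational point
  let p : PrimeSpectrum A := hU.primeIdealOf ⟨x, hxU⟩
  have hpx : j p = x := hU.fromSpec_primeIdealOf ⟨x, hxU⟩
  have hpm : p.asIdeal.IsMaximal := hU.primeIdealOf_isMaximal_of_isClosed ⟨x, hxU⟩ hx
  let _ : Field (A ⧸ p.asIdeal) := Ideal.Quotient.field _
  have : Module.Finite k (A ⧸ p.asIdeal) := finite_of_finite_type_of_isJacobsonRing k (A ⧸ p.asIdeal)
  have hb : Function.Bijective (algebraMap k (A ⧸ p.asIdeal)) :=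
    IsAlgClosed.algebraMap_bijective_of_isIntegral
  let e : k ≃ₐ[k] (A ⧸ p.asIdeal) := AlgEquiv.ofBijective (Algebra.ofId k _) hb
  let χ : A →ₐ[k] k := (e.symm : (A ⧸ p.asIdeal) →ₐ[k] k).comp (Ideal.Quotient.mkₐ k p.asIdeal)
  have hχ : ∀ a, χ a = 0 → a ∈ p.asIdeal := by
    intro a ha
    have h1 : e.symm (Ideal.Quotient.mk p.asIdeal a) = 0 := ha
    rw [map_eq_zero_iff _ e.symm.injective] at h1
    exact Ideal.Quotient.eq_zero_iff_mem.1 h1
  -- the point of the fibre
  have hpo : HilbD.pull f y Z.1 = (ob f j hj J hJ).1 := by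
    have h1 : pullObj f y Z = ob f j hj J hJ := by rw [hyJ, pullObj_pt]
    exact congrArg Subtype.val h1
  obtain ⟨m, hm, hmq⟩ := exists_isPullback_of_pull_eq f y Z.1 (ob f j hj J hJ).1 hpo
  obtain ⟨w, hw1, -⟩ := Scheme.exists_preimage_of_isPullback hm z (o K) hy.symm
  have hwx : qq f (ob f j hj J hJ).1 w = x := by
    rw [← hmq, Scheme.Hom.comp_apply, hw1]
    exact hz
  have hfJ : IsFinite (zpi J) := hJ.1.1
  have hc := isClosedImmersion_ziota f j hj J
  obtain ⟨e', he', h'⟩ := exists_iso_ker_subscheme (ziota f j hj J)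
  have h1 : qq f (ob f j hj J hJ).1 = (e' ≫ Spec.map (CommRingCat.ofHom
      ((Ideal.Quotient.mk J).comp (incR K)))) ≫ j := by
    change (ziota f j hj J).ker.subschemeι ≫ _ = _
    rw [← h', Category.assoc, ziota_fst, Category.assoc]
  rw [h1, Scheme.Hom.comp_apply, ← hpx] at hwx
  have h2 := j.isOpenEmbedding.injective hwx
  rw [Scheme.Hom.comp_apply] at h2
  let v : PrimeSpectrum ((K ⊗[k] A) ⧸ J) := e' w
  have h3 : v.asIdeal.comap ((Ideal.Quotient.mk J).comp (incR K)) = p.asIdeal :=
    congrArg PrimeSpectrum.asIdeal h2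
  have hP := eq_mm (K := K) χ (v.asIdeal.comap (Ideal.Quotient.mk J))
    (v.2.comap (Ideal.Quotient.mk J)).ne_top (fun a ha => by
      have h4 := hχ a ha
      rw [← h3] at h4
      exact h4)
  have hJm : J ≤ mm ((Algebra.ofId k K).comp χ) := by
    rw [← hP]
    intro b hb
    rw [Ideal.mem_comap, Ideal.Quotient.eq_zero_iff_mem.2 hb]
    exact zero_mem _
  obtain ⟨F, hF1, hF2⟩ := PairDef.exists_defOver hdimA hsm ((Algebra.ofId k K).comp χ)
    (fun a => ⟨χ a, rfl⟩) J hJ2 hJm
  rw [← hy, him]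
  exact (trdegAt_im_le j hj hZ J hJ F hF1).trans hF2

include hdim hFA hZ in
theorem dim_le [LocallyOfFiniteType H.hom] (x : X) (hx : IsClosed ({x} : Set X)) :
    topologicalKrullDim ((TautSh.famToX f H Z.1) ⁻¹' {x} : Set _) ≤ 2 := by
  have hfin : IsFinite (TautSh.famToH f H Z.1) := Z.2.1.1
  let T : TopologicalSpace.Closeds (TautSh.fam f H Z.1) :=
    ⟨(TautSh.famToX f H Z.1) ⁻¹' {x}, hx.preimage (TautSh.famToX f H Z.1).continuous⟩
  let I := Scheme.IdealSheafData.vanishingIdeal T
  have hr : Set.range I.subschemeι = (T : Set (TautSh.fam f H Z.1)) := by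
    rw [Scheme.IdealSheafData.range_subschemeι]
    simp [I]
  have h1 : topologicalKrullDim (I.subscheme) ≤ (2 : ℕ) := by
    refine K221.FldPt.topologicalKrullDim_le (I.subschemeι ≫ TautSh.famToH f H Z.1 ≫ H.hom) fun t => ?_
    have ht : I.subschemeι t ∈ (T : Set (TautSh.fam f H Z.1)) := hr ▸ ⟨t, rfl⟩
    have e1 := trdegAt_comp I.subschemeι (TautSh.famToH f H Z.1 ≫ H.hom) t
    have e2 := trdegAt_comp (TautSh.famToH f H Z.1) H.hom (I.subschemeι t)
    have e3 : trdegAt I.subschemeι t = 0 := trdegAt_eq_zero_of_isPreimmersion _ _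
    have e4 : trdegAt (TautSh.famToH f H Z.1) (I.subschemeι t) = 0 :=
      trdegAt_eq_zero_of_locallyQuasiFinite _ _
    rw [e1, e2, e3, e4, add_zero, add_zero]
    exact trdegAt_le f hdim hFA hZ x hx (I.subschemeι t) ht
  have h2 : topologicalKrullDim (T : Set (TautSh.fam f H Z.1)) ≤ topologicalKrullDim I.subscheme := by
    rw [← hr]
    exact (I.subschemeι.isEmbedding.toHomeomorph.symm.isInducing).topologicalKrullDim_le
  exact h2.trans h1

end K974.ThroughPt
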